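import Cfsg.Agent.Lib.Solvable.Frattini
import Cfsg.Agent.Lib.Solvable.Hall
import Cfsg.Agent.Lib.Supersolvable.Tower

/-!
Assorted facts on finite solvable groups: coprime automorphisms fixing `F(G)`, Hall maximal
subgroups, ordered Sylow products, subgroups of all orders of `G × A`, derived series.
-/

set_option autoImplicit false

open Subgroup
open scoped Pointwise commutatorElement

namespace CfsgLib.SolvableMisc

universe u v

/-- An automorphism fixing `F(G)` pointwise of order prime to `|G|` is trivial. -/
theorem aut_fixing_fitting {G : Type u} [Group G] [Finite G] [Group.IsSolvable G] (σ : MulAut G)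
    (hσ : ∀ x ∈ Cfsg.fittingSubgroup G, σ x = x) (hcop : (orderOf σ).Coprime (Nat.card G)) :
    σ = 1 := by
  set F := Cfsg.fittingSubgroup G
  have := CfsgLib.Solvable.fittingSubgroup_normal G
  refine MulEquiv.ext fun x => ?_
  set c := x⁻¹ * σ x with hc
  have hcF : c ∈ F := by
    refine CfsgLib.Solvable.centralizer_fittingSubgroup_le (mem_centralizer_iff.mpr fun f hf => ?_)
    have h1 : σ (x * f * x⁻¹) = x * f * x⁻¹ := hσ _ (Normal.conj_mem inferInstance f hf x)
    rw [map_mul, map_mul, map_inv, hσ f hf] at h1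
    calc f * c = x⁻¹ * (x * f * x⁻¹) * σ x := by rw [hc]; group
      _ = x⁻¹ * (σ x * f * (σ x)⁻¹) * σ x := by rw [h1]
      _ = c * f := by rw [hc]; group
  have hpow : ∀ n : ℕ, (σ ^ n) x = x * c ^ n := fun n => by
    induction n with
    | zero => simp
    | succ n ih =>
      rw [pow_succ', MulAut.mul_apply, ih, map_mul, map_pow, hσ c hcF, pow_succ', ← mul_assoc,
        hc, mul_inv_cancel_left]
  have h1 := hpow (orderOf σ)
  rw [pow_orderOf_eq_one, MulAut.one_apply, left_eq_mul] at h1
  have h2 : c = 1 := orderOf_eq_one_iff.mp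
    (Nat.eq_one_of_dvd_coprimes hcop (orderOf_dvd_of_pow_eq_one h1) (orderOf_dvd_natCard c))
  rw [hc, inv_mul_eq_one] at h2
  rw [MulAut.one_apply, ← h2]

/-- If all maximal subgroups of a nontrivial finite solvable group are Hall subgroups, some Sylow
subgroup is normal. -/
theorem exists_normal_sylow_of_maximal_hall {G : Type u} [Group G] [Finite G] [Group.IsSolvable G]
    [Nontrivial G] (h : ∀ M : Subgroup G, IsCoatom M → (Nat.card M).Coprime M.index) :
    ∃ p : ℕ, p.Prime ∧ p ∣ Nat.card G ∧ ∀ P : Sylow p G, (P : Subgroup G).Normal := by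
  revert h
  suffices H : ∀ n, ∀ (G : Type u) [Group G] [Finite G] [Group.IsSolvable G] [Nontrivial G],
      Nat.card G ≤ n → (∀ M : Subgroup G, IsCoatom M → (Nat.card M).Coprime M.index) →
      ∃ p : ℕ, p.Prime ∧ p ∣ Nat.card G ∧ ∀ P : Sylow p G, (P : Subgroup G).Normal from
    H _ G le_rfl
  intro n
  induction n with
  | zero => intro G _ _ _ _ hn; have := Nat.card_pos (α := G); omega
  | succ n ih =>
    intro G _ _ _ _ hn h
    obtain ⟨N, hNn, hN0, -, hNmin⟩ :=
      CfsgLib.Solvable.exists_minimal_normal_le (⊤ : Subgroup G) top_ne_bot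
    obtain ⟨hab, p, hp, hexp⟩ := CfsgLib.Solvable.minimal_normal_elementary_abelian N hN0 hNmin
    have := Fact.mk hp
    have hNp : IsPGroup p N := fun x => ⟨1, Subtype.ext (by simpa using hexp x x.2)⟩
    obtain ⟨i, hi⟩ := IsPGroup.iff_card.mp hNp
    have hpN : p ∣ Nat.card N :=
      (hNp.card_eq_or_dvd).resolve_left ((one_lt_card_iff_ne_bot N).mpr hN0).ne'
    have hpG : p ∣ Nat.card G := hpN.trans (card_subgroup_dvd_card N)
    have hone : ∀ {r : ℕ} [Fact r.Prime] (Q : Sylow r G), (Q : Subgroup G).Normal →
        ∀ P : Sylow r G, (P : Subgroup G).Normal := fun Q hQ P => by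
      obtain ⟨g, hg⟩ := MulAction.exists_smul_eq G Q P
      rw [← hg, Sylow.smul_eq_of_normal (h := hQ)]
      exact hQ
    by_cases htop : N = ⊤
    · refine ⟨p, hp, hpG, fun P => ?_⟩
      have : (P : Subgroup G) = ⊤ := top_le_iff.mp (htop ▸ hNp.le_sylow_of_normal P)
      rw [this]; infer_instance
    have : Nontrivial (G ⧸ N) := QuotientGroup.nontrivial_iff.mpr htop
    have hs := QuotientGroup.mk'_surjective N
    have hlt : Nat.card (G ⧸ N) ≤ n := by
      have := CfsgLib.Supersolvable.card_quotient_lt hN0
      omega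
    obtain ⟨q, hq, hqd, hQ⟩ := ih (G ⧸ N) hlt fun M hM => by
      have hco : IsCoatom (M.comap (QuotientGroup.mk' N)) := isCoatom_comap_of_surjective hs hM
      have h1 := h _ hco
      rw [index_comap_of_surjective _ hs, CfsgLib.Solvable.card_comap_mk'] at h1
      exact h1.coprime_dvd_left (dvd_mul_left _ _)
    have := Fact.mk hq
    have Q : Sylow q G := default
    have hQN : ((Q : Subgroup G) ⊔ N).Normal := by
      have h1 := (hQ (Q.mapSurjective hs)).comap (QuotientGroup.mk' N)
      rwa [Sylow.coe_mapSurjective, comap_map_eq, QuotientGroup.ker_mk'] at h1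
    by_cases hqp : q = p
    · subst hqp
      rw [sup_eq_left.mpr (hNp.le_sylow_of_normal Q)] at hQN
      exact ⟨q, hq, hpG, hone Q hQN⟩
    by_cases hnorm : normalizer ((Q : Subgroup G) : Set G) = ⊤
    · exact ⟨q, hq, hqd.trans (card_quotient_dvd_card N), hone Q (normalizer_eq_top_iff.mp hnorm)⟩
    obtain ⟨M, hM, hle⟩ := (eq_top_or_exists_le_coatom _).resolve_left hnorm
    have hfrat : normalizer ((Q : Subgroup G) : Set G) ⊔ ((Q : Subgroup G) ⊔ N) = ⊤ := by
      have h1 := Sylow.normalizer_sup_eq_top (N := (Q : Subgroup G) ⊔ N)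
        (Q.subtype le_sup_left)
      rwa [Sylow.coe_subtype, map_subgroupOf_eq_of_le le_sup_left] at h1
    have hNM : ¬ N ≤ M := fun h' => hM.1 (top_le_iff.mp (hfrat.ge.trans
      (sup_le hle (sup_le (le_normalizer.trans hle) h'))))
    have hc := CfsgLib.Solvable.isComplement'_of_not_le N hNmin hM hNM
    have hcop := h M hM
    rw [hc.index_eq_card, hi] at hcop
    have hG : Nat.card G = p ^ i * Nat.card M := by rw [← hc.card_mul, hi]
    have hi0 : i ≠ 0 := fun h0 => by
      rw [hi, h0, pow_zero] at hpN
      exact hp.ne_one (Nat.dvd_one.mp hpN)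
    have hfac : (Nat.card G).factorization p = i := by
      rw [hG, Nat.factorization_mul (pow_pos hp.pos i).ne' Nat.card_pos.ne', hp.factorization_pow]
      simp [Nat.factorization_eq_zero_of_not_dvd
        (hp.coprime_iff_not_dvd.mp ((Nat.coprime_pow_right_iff (Nat.pos_of_ne_zero hi0) _ _).mp
          hcop).symm)]
    refine ⟨p, hp, hpG, hone (Sylow.ofCard N (by rw [hi, hfac])) ?_⟩
    rw [Sylow.coe_ofCard]
    exact hNn

/-- Absorbing an element of a normal subgroup contained in the `j`-th factor. -/
theorem absorb {G : Type u} [Group G] (N : Subgroup G) [N.Normal] :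
    ∀ (t : ℕ) (S : Fin t → Subgroup G) (j : Fin t), N ≤ S j → ∀ n ∈ N, ∀ s : Fin t → G,
      (∀ i, s i ∈ S i) →
      ∃ s' : Fin t → G, (∀ i, s' i ∈ S i) ∧ n * (List.ofFn s).prod = (List.ofFn s').prod := by
  intro t
  induction t with
  | zero => intro S j; exact j.elim0
  | succ t ih =>
    intro S j hj n hn s hs
    rw [List.ofFn_succ, List.prod_cons]
    cases j using Fin.cases with
    | zero =>
      refine ⟨Fin.cons (n * s 0) (fun i => s i.succ), ?_, ?_⟩
      · intro i
        cases i using Fin.cases with
        | zero => rw [Fin.cons_zero]; exact mul_mem (hj hn) (hs 0)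
        | succ k => rw [Fin.cons_succ]; exact hs _
      · simp [List.ofFn_succ, mul_assoc]
    | succ j =>
      obtain ⟨s', hs', he⟩ := ih (fun i => S i.succ) j hj ((s 0)⁻¹ * n * s 0)
        (by simpa using Normal.conj_mem inferInstance n hn (s 0)⁻¹) (fun i => s i.succ)
        (fun i => hs _)
      refine ⟨Fin.cons (s 0) s', ?_, ?_⟩
      · intro i
        cases i using Fin.cases with
        | zero => rw [Fin.cons_zero]; exact hs 0
        | succ k => rw [Fin.cons_succ]; exact hs' k
      · simp only [List.ofFn_succ, List.prod_cons, Fin.cons_zero, Fin.cons_succ]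
        rw [← he]
        group

/-- In a finite solvable group, Sylow subgroups for all primes multiply to `G` in any order. -/
theorem product_of_sylows {G : Type u} [Group G] [Finite G] [Group.IsSolvable G] (t : ℕ)
    (p : Fin t → ℕ) (hp : ∀ i, (p i).Prime)
    (hall : ∀ q : ℕ, q.Prime → q ∣ Nat.card G → ∃ i, p i = q) (S : (i : Fin t) → Sylow (p i) G) :
    ∀ g : G, ∃ s : (i : Fin t) → G, (∀ i, s i ∈ (S i : Subgroup G)) ∧ g = (List.ofFn s).prod := by
  revert hall S
  suffices H : ∀ n, ∀ (G : Type u) [Group G] [Finite G] [Group.IsSolvable G], Nat.card G ≤ n →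
      (∀ q : ℕ, q.Prime → q ∣ Nat.card G → ∃ i, p i = q) →
      ∀ (S : (i : Fin t) → Sylow (p i) G) (g : G),
      ∃ s : (i : Fin t) → G, (∀ i, s i ∈ (S i : Subgroup G)) ∧ g = (List.ofFn s).prod from
    H _ G le_rfl
  intro n
  induction n with
  | zero => intro G _ _ _ hn; have := Nat.card_pos (α := G); omega
  | succ n ih =>
    intro G _ _ _ hn hall S g
    cases subsingleton_or_nontrivial G with
    | inl h => exact ⟨fun _ => 1, fun i => one_mem _, Subsingleton.elim _ _⟩
    | inr h =>
      obtain ⟨r, N, hr, hN, hNr, hN0⟩ := CfsgLib.Solvable.exists_normal_pgroup_ne_bot (G := G)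
      have := Fact.mk hr
      obtain ⟨j, rfl⟩ := hall r hr ((hNr.card_eq_or_dvd.resolve_left
        ((one_lt_card_iff_ne_bot N).mpr hN0).ne').trans (card_subgroup_dvd_card N))
      have hle := hNr.le_sylow_of_normal (S j)
      have hs := QuotientGroup.mk'_surjective N
      have hlt : Nat.card (G ⧸ N) ≤ n := by
        have := CfsgLib.Supersolvable.card_quotient_lt hN0
        omega
      obtain ⟨s', hs', he⟩ := ih (G ⧸ N) hlt
        (fun q hq hqd => hall q hq (hqd.trans (card_quotient_dvd_card N)))
        (fun i => haveI := Fact.mk (hp i); (S i).mapSurjective hs) (QuotientGroup.mk' N g)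
      have hex : ∀ i, ∃ x ∈ (S i : Subgroup G), QuotientGroup.mk' N x = s' i := fun i =>
        haveI := Fact.mk (hp i)
        mem_map.mp (by simpa only [Sylow.coe_mapSurjective] using hs' i)
      choose s hs1 hs2 using hex
      have hn' : g * ((List.ofFn s).prod)⁻¹ ∈ N := by
        refine (QuotientGroup.eq_one_iff _).mp ?_
        show QuotientGroup.mk' N (g * ((List.ofFn s).prod)⁻¹) = 1
        rw [map_mul, map_inv, map_list_prod, List.map_ofFn,
          show (QuotientGroup.mk' N ∘ s) = s' from funext hs2, ← he, mul_inv_cancel]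
      obtain ⟨s'', h1, h2⟩ := absorb N t (fun i => (S i : Subgroup G)) j hle _ hn' s hs1
      exact ⟨s'', h1, by rw [← h2, inv_mul_cancel_right]⟩

theorem supersolvable_of_comm {A : Type v} [Group A] [Finite A] (hc : ∀ a b : A, a * b = b * a) :
    Cfsg.IsSupersolvable A := by
  revert hc
  refine CfsgLib.Supersolvable.groupInduction (P := fun A _ _ => (∀ a b : A, a * b = b * a) →
    Cfsg.IsSupersolvable A) (fun A _ _ ih hc => ?_) A
  cases subsingleton_or_nontrivial A with
  | inl h => exact CfsgLib.Supersolvable.of_subsingleton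
  | inr h =>
    obtain ⟨q, hq, hqd⟩ := Nat.exists_prime_and_dvd (Finite.one_lt_card (α := A)).ne'
    have := Fact.mk hq
    obtain ⟨z, hz⟩ := exists_prime_orderOf_dvd_card' q hqd
    have hn : (zpowers z).Normal := ⟨fun x hx y => by rwa [hc y x, mul_inv_cancel_right]⟩
    have hcard : (Nat.card (zpowers z)).Prime := by rw [Nat.card_zpowers, hz]; exact hq
    refine CfsgLib.Supersolvable.of_quotient_prime _ hcard (ih _
      (CfsgLib.Supersolvable.card_quotient_lt (CfsgLib.Supersolvable.prime_card_ne_bot hcard))
      fun a b => ?_)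
    induction a using QuotientGroup.induction_on with
    | H a =>
      induction b using QuotientGroup.induction_on with
      | H b => rw [← QuotientGroup.mk_mul, hc, QuotientGroup.mk_mul]

/-- `G × A` has subgroups of every order. -/
theorem prod_abelian_clt {G : Type u} {A : Type v} [Group G] [CommGroup A] [Finite G] [Finite A]
    [Group.IsSolvable G] (hA : ∀ p : ℕ, p.Prime → p ∣ Nat.card A → p ∣ Nat.card G)
    (hexp : ∀ p : ℕ, p.Prime → p ∣ Nat.card G →
      (Nat.card A).factorization p + 1 = (Nat.card G).factorization p) :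
    Cfsg.HasSubgroupOfEveryOrder (G × A) := by
  intro d hd
  rw [Nat.card_prod] at hd
  have hG0 : Nat.card G ≠ 0 := Nat.card_pos.ne'
  have hA0 : Nat.card A ≠ 0 := Nat.card_pos.ne'
  have hd0 : d ≠ 0 := fun h => mul_ne_zero hG0 hA0 (zero_dvd_iff.mp (h ▸ hd))
  have hdle := (Nat.factorization_le_iff_dvd hd0 (mul_ne_zero hG0 hA0)).mpr hd
  obtain ⟨H, hH⟩ := CfsgLib.Solvable.exists_isPiHall (G := G)
    {p : ℕ | (Nat.card G).factorization p ≤ d.factorization p}
  have hH0 : Nat.card H ≠ 0 := Nat.card_pos.ne'
  have hsum : ∀ p, (Nat.card G).factorization p =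
      (Nat.card H).factorization p + H.index.factorization p := fun p => by
    rw [← H.card_mul_index, Nat.factorization_mul hH0 index_ne_zero_of_finite]; rfl
  have hHd : Nat.card H ∣ d := by
    rw [← Nat.factorization_le_iff_dvd hH0 hd0]
    intro p
    by_cases hp : p.Prime ∧ p ∣ Nat.card H
    · have := hH.1 p hp.1 hp.2
      have := hsum p
      simp only [Set.mem_ofPred_eq] at *
      omega
    · have : (Nat.card H).factorization p = 0 := by
        rcases not_and_or.mp hp with h | h
        · exact Nat.factorization_eq_zero_of_not_prime _ h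
        · exact Nat.factorization_eq_zero_of_not_dvd h
      omega
  obtain ⟨k, rfl⟩ := hHd
  have hk0 : k ≠ 0 := fun h => hd0 (by rw [h, mul_zero])
  have hk : k ∣ Nat.card A := by
    rw [← Nat.factorization_le_iff_dvd hk0 hA0]
    intro p
    by_cases hp : p.Prime
    · have h1 := hdle p
      rw [Nat.factorization_mul hH0 hk0, Nat.factorization_mul hG0 hA0] at h1
      simp only [Finsupp.add_apply] at h1
      by_cases hpi : (Nat.card G).factorization p ≤ (Nat.card H * k).factorization p
      · have hidx : H.index.factorization p = 0 :=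
          Nat.factorization_eq_zero_of_not_dvd (hH.2 p hp hpi)
        have := hsum p
        omega
      · rw [Nat.factorization_mul hH0 hk0] at hpi
        simp only [Finsupp.add_apply] at hpi
        have hH' : (Nat.card H).factorization p = 0 := by
          refine Nat.factorization_eq_zero_of_not_dvd fun h => hpi ?_
          have := hH.1 p hp h
          simp only [Set.mem_ofPred_eq, Nat.factorization_mul hH0 hk0, Finsupp.add_apply] at this
          exact this
        by_cases hpG : p ∣ Nat.card G
        · have := hexp p hp hpG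
          omega
        · rw [Nat.factorization_eq_zero_of_not_dvd hpG] at hpi
          omega
    · rw [Nat.factorization_eq_zero_of_not_prime _ hp]
      exact Nat.zero_le _
  obtain ⟨B, hB⟩ := CfsgLib.Supersolvable.exists_card_eq
    (supersolvable_of_comm (A := A) mul_comm) hk
  exact ⟨H.prod B, by rw [Nat.card_congr (Subgroup.prodEquiv H B).toEquiv, Nat.card_prod, hB]⟩

/-- Two consecutive cyclic derived factors force stabilisation. -/
theorem derivedSeries_cyclic_factors {G : Type u} [Group G] (i : ℕ) (hi : 1 ≤ i)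
    (h₁ : IsCyclic (↥(derivedSeries G i) ⧸ (derivedSeries G (i + 1)).subgroupOf (derivedSeries G i)))
    (h₂ : IsCyclic (↥(derivedSeries G (i + 1)) ⧸
      (derivedSeries G (i + 2)).subgroupOf (derivedSeries G (i + 1)))) :
    derivedSeries G (i + 1) = derivedSeries G (i + 2) := by
  set X := derivedSeries G i with hX
  set Y := derivedSeries G (i + 1) with hY
  set Z := derivedSeries G (i + 2) with hZ
  have hZn : Z.Normal := derivedSeries_normal G (i + 2)
  have hYn : Y.Normal := derivedSeries_normal G (i + 1)
  have hYX : Y ≤ X := derivedSeries_antitone G (Nat.le_succ i)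
  set π := QuotientGroup.mk' Z
  let f : ↥Y →* G ⧸ Z := π.comp Y.subtype
  have hYc : IsCyclic (Y.map π) := by
    have hker : f.ker = Z.subgroupOf Y := by
      ext x
      rw [MonoidHom.mem_ker, mem_subgroupOf]
      exact QuotientGroup.eq_one_iff _
    have hr : f.range = Y.map π := by rw [MonoidHom.range_comp, range_subtype]
    exact isCyclic_of_surjective _
      ((QuotientGroup.quotientMulEquivOfEq hker.symm).trans
        ((QuotientGroup.quotientKerEquivRange f).trans (MulEquiv.subgroupCongr hr))).surjective
  have : (Y.map π).Normal := hYn.map π (QuotientGroup.mk'_surjective Z)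
  have hXc : X.map π ≤ centralizer ((Y.map π : Subgroup (G ⧸ Z)) : Set (G ⧸ Z)) :=
    le_trans (le_trans (map_mono ((derivedSeries_antitone G hi).trans (derivedSeries_one (G := G)).le))
      (by
        rw [commutator_def, map_commutator, map_top_of_surjective π (QuotientGroup.mk'_surjective Z),
          ← commutator_def]))
      (CfsgLib.Supersolvable.commutator_le_centralizer_of_cyclic (Y.map π))
  -- `X/Z` is a central extension with cyclic quotient, hence abelian
  let g : ↥X →* G ⧸ Z := π.comp X.subtype
  let φ : ↥(X.map π) →* ↥X ⧸ Y.subgroupOf X :=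
    (QuotientGroup.lift g.ker (QuotientGroup.mk' (Y.subgroupOf X)) (fun x hx => by
      rw [MonoidHom.mem_ker] at hx
      rw [MonoidHom.mem_ker]
      refine (QuotientGroup.eq_one_iff x).mpr (mem_subgroupOf.mpr ?_)
      exact (derivedSeries_antitone G (Nat.le_succ (i + 1))) ((QuotientGroup.eq_one_iff _).mp hx))).comp
      ((QuotientGroup.quotientKerEquivRange g).trans
        (MulEquiv.subgroupCongr (by rw [MonoidHom.range_comp, range_subtype]))).symm.toMonoidHom
  have hφ : φ.ker ≤ center ↥(X.map π) := by
    rintro ⟨_, x, hx, rfl⟩ hk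
    have he : ((QuotientGroup.quotientKerEquivRange g).trans
        (MulEquiv.subgroupCongr (by rw [MonoidHom.range_comp, range_subtype] :
          g.range = X.map π))).symm ⟨π x, ⟨x, hx, rfl⟩⟩ = QuotientGroup.mk ⟨x, hx⟩ := by
      rw [MulEquiv.symm_apply_eq]
      rfl
    rw [MonoidHom.mem_ker, MonoidHom.comp_apply, MulEquiv.coe_toMonoidHom, he] at hk
    have hxY : x ∈ Y := mem_subgroupOf.mp ((QuotientGroup.eq_one_iff (⟨x, hx⟩ : X)).mp hk)
    rw [mem_center_iff]
    exact fun b => Subtype.ext (mem_centralizer_iff.mp (hXc b.2) (π x) (mem_map_of_mem π hxY)).symm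
  have hcomm : ∀ a b : ↥(X.map π), a * b = b * a := commutative_of_cyclic_center_quotient φ hφ
  refine le_antisymm ?_ (derivedSeries_antitone G (Nat.le_succ (i + 1)))
  rw [show Y = ⁅X, X⁆ from derivedSeries_succ G i, commutator_le]
  intro a ha b hb
  refine (QuotientGroup.eq_one_iff _).mp ?_
  show π ⁅a, b⁆ = 1
  rw [map_commutatorElement, commutatorElement_eq_one_iff_mul_comm]
  exact congrArg Subtype.val (hcomm ⟨π a, mem_map_of_mem π ha⟩ ⟨π b, mem_map_of_mem π hb⟩)

end CfsgLib.SolvableMisc
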